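import Cfsg.Agent.Lib.RIV.HxE
import Cfsg.Agent.Lib.RIV.Mod
import Cfsg.Agent.Lib.Tits.Defs
import Cfsg.Agent.S1057

/-! A finite simple group generated by a hexagonal system of root groups is of Lie type. -/

set_option autoImplicit false
set_option linter.unusedSectionVars false
set_option maxHeartbeats 400000

namespace H80.FS6

open Subgroup Cfsg H24 H63.St H73.FW
open H52.FW (M2 wS dS Act)
open scoped MatrixGroups commutatorElement

universe u

namespace HxT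

open H73.FW.NF H9.X9.HxN
open H73.FW.Hex (Φ_inj t2 t3 t5 cj_w)

section
variable {G E F : Type*} [Group G] [Field E] [Field F] (A : Hex G E F)

variable (σ : E →+* E) (hσ : ∀ x, σ x = x ↔ ∃ t, A.ι t = x)
  (h3 : ∀ a, σ (σ (σ a)) = a ∧ A.β a = σ a * σ (σ a))
include hσ h3

theorem g2_eq' (a z : E) (ha : a ≠ 0) :
    A.d3 1 1 * A.ι (A.g2 a z) = a * z + A.d3 1 1 * (σ (a * z) + σ (σ (a * z))) := by
  have h := (A.K (inv_ne_zero ha) (-z)).2
  have h0 := (map_ne_zero σ).2 ha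
  have h1 := (map_ne_zero σ).2 h0
  simp only [A.e3_eq', (h3 _).2, inv_inv, neg_neg, map_sub, map_neg, map_inv₀, map_mul] at h ⊢
  field_simp at h
  linear_combination -h

variable (h2 : (2 : F) = 0)
include h2

theorem c_eq : A.d3 1 1 = 1 := by
  have h2' : (2 : E) = 0 := by rw [← map_ofNat A.ι 2, h2, map_zero]
  have k : ∀ t, A.d3 1 1 * A.ι (A.g2 1 (A.ι t)) = A.ι t := fun t => by
    rw [g2_eq' A σ hσ h3 1 _ one_ne_zero, one_mul, (hσ _).2 ⟨t, rfl⟩, (hσ _).2 ⟨t, rfl⟩]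
    linear_combination (A.d3 1 1 * A.ι t) * h2'
  have e := (A.D (A.ι 1) (A.ι 1) 1).1
  rw [← map_add, A.d2_eq, A.d2_eq, A.Cn_ι, A.Cn_ι, A.d3_eq', A.d5_eq, A.β_ι, (A.K (by simp) _).1, A.Cn_ι, map_one,
    inv_one, neg_neg] at e
  simp only [one_mul, mul_one, one_pow] at e
  have k1 := k 1
  rw [map_one] at k1
  have k2 := k (A.g2 1 1)⁻¹
  rw [map_inv₀, ← eq_inv_of_mul_eq_one_left k1] at k2
  have e' := congrArg A.ι e
  simp only [map_add, map_pow, map_one] at e'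
  linear_combination A.d3 1 1 * e' + k1 + k2 - 2 * A.d3 1 1 * h2'

theorem g2_eq (a z : E) : A.ι (A.g2 a z) = a * z + σ (a * z) + σ (σ (a * z)) := by
  by_cases ha : a = 0
  · simp [ha, A.zero3']
  have := g2_eq' A σ hσ h3 a z ha
  rw [c_eq A σ hσ h3 h2] at this
  linear_combination this

theorem d4_one : A.d4 1 1 = 1 := by
  have h2' : (2 : E) = 0 := by rw [← map_ofNat A.ι 2, h2, map_zero]
  have nE : (-1 : E) = 1 := by linear_combination -h2'
  have nF : (-1 : F) = 1 := by linear_combination -h2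
  have c := c_eq A σ hσ h3 h2
  have ww : A.wb * A.wb = 1 := by
    rw [Hex.wb, ← map_mul, ← map_one A.fb]
    congr 1
    simp only [wS, H64.SL2.ent]
    exact ⟨by linear_combination -h2, by ring, by ring, by linear_combination -h2⟩
  have br : A.x6 1 * A.wb * A.x6 1 = A.wb * A.x6 1 * A.wb := by
    rw [Hex.wb, Hex.x6, ← map_mul, ← map_mul, ← map_mul, ← map_mul]
    congr 1
    simp only [wS, upT, H64.SL2.ent]
    exact ⟨by ring, by ring, by linear_combination -h2, by ring⟩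
  have s2 : A.x6 1 * A.x6 1 = 1 := by rw [← A.p6.add, one_add_one_eq_two, h2, A.p6.zero]
  have a2 : A.x1 1 * A.x1 1 = 1 := by rw [← A.p1.add, one_add_one_eq_two, h2', A.p1.zero]
  have wi : A.wb⁻¹ = A.wb := inv_eq_of_mul_eq_one_left ww
  have ai : (A.x1 1)⁻¹ = A.x1 1 := inv_eq_of_mul_eq_one_left a2
  have w1 : ∀ a, A.wb * A.x1 a * A.wb⁻¹ = A.x5 a := fun _ => rfl
  have w2 : ∀ a, A.wb * A.x2 a * A.wb⁻¹ = A.x4 a := fun _ => rfl
  have w3 : ∀ a, A.wb * A.x3 a * A.wb⁻¹ = A.x3 a := fun a => A.cen3 _ a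
  have ww' : ∀ x, A.wb * (A.wb * x * A.wb⁻¹) * A.wb⁻¹ = x := fun x => by
    calc _ = (A.wb * A.wb) * x * (A.wb * A.wb)⁻¹ := by group
      _ = x := by rw [ww]; group
  have w5 : ∀ a, A.wb * A.x5 a * A.wb⁻¹ = A.x1 a := fun a => by rw [← w1, ww']
  have w4 : ∀ a, A.wb * A.x4 a * A.wb⁻¹ = A.x2 a := fun a => by rw [← w2, ww']
  have c56 : A.x6 1 * A.x5 1 * (A.x6 1)⁻¹ = A.x5 1 := by
    rw [← A.cmm (A.p5.m 1) (A.p6.m 1), mul_inv_cancel_right]
  have g1 : A.wb * (A.x6 1 * A.x1 1 * (A.x6 1)⁻¹) * A.wb⁻¹ = A.x6 1 * A.x1 1 * (A.x6 1)⁻¹ := by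
    calc _ = (A.wb * A.x6 1 * A.wb) * A.x5 1 * (A.wb * A.x6 1 * A.wb)⁻¹ := by rw [← w5]; group
      _ = A.x6 1 * (A.wb * (A.x6 1 * A.x5 1 * (A.x6 1)⁻¹) * A.wb⁻¹) * (A.x6 1)⁻¹ := by rw [← br]; group
      _ = _ := by rw [c56, w5]
  have g2 : A.x6 1 * A.x1 1 * (A.x6 1)⁻¹ = A.x1 1 * A.Φ (A.d4 1 1) 1 1 1 0 := by
    have r := A.r16 1 1
    have i1 : A.ι 1 = 1 := map_one _
    have k1 : A.Cn 1 = 1 := by rw [← i1, A.Cn_ι, one_pow]
    rw [A.d2_eq, c, A.d5_eq, k1, i1, mul_one, mul_one, nE] at r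
    rw [← r, commutatorElement_def, ai, ← mul_assoc, ← mul_assoc, ← mul_assoc, a2, one_mul]
  rw [g2] at g1
  have g3 : A.wb * (A.x1 1 * A.Φ (A.d4 1 1) 1 1 1 0) * A.wb⁻¹ =
      A.Φ (1 + A.g2 1 1) (A.d4 1 1) 1 1 0 * A.x1 1 := by
    have e : A.wb * (A.x1 1 * A.Φ (A.d4 1 1) 1 1 1 0) * A.wb⁻¹ =
        A.wb * A.x1 1 * A.wb⁻¹ * (A.wb * A.Φ (A.d4 1 1) 1 1 1 0 * A.wb⁻¹) := by group
    rw [e, A.cj_Φ, w1, w4, w2, w3, w5, A.p6.zero, mul_one, mul_inv_cancel, mul_one, ← mul_assoc, ← mul_assoc,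
      ← mul_assoc, A.Φ5, A.Φ2, A.Φ4, A.Φ3]
    simp only [A.Φ_mul, A.o62_eq, A.o53_eq, A.zero3, add_zero, zero_add, zero_mul, mul_zero]
  rw [g3] at g1
  have g4 : A.x1 1 * A.Φ (1 + A.g2 1 1) (A.d4 1 1) 1 1 0 * (A.x1 1)⁻¹ = A.Φ (A.d4 1 1) 1 1 1 0 := by
    rw [ai, mul_assoc, g1, ← mul_assoc, a2, one_mul]
  rw [u_Φ] at g4
  have g5 := (Φ_inj g4).2.1
  have i1 : A.ι 1 = 1 := map_one _
  have k1 : A.Cn 1 = 1 := by rw [← i1, A.Cn_ι, one_pow]
  rw [A.e2_eq, k1, inv_one, nE, (A.zero6 1).1] at g5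
  linear_combination g5 - A.g2 1 1 * h2

end

section
variable {G E F : Type*} [Group G] [Field E] [Fintype E] [Field F] [Fintype F] (A : Hex G E F)

theorem two_eq (hF : Fintype.card F = 2) : (2 : F) = 0 := by
  have := FiniteField.cast_card_eq_zero F
  rw [hF] at this
  exact_mod_cast this

theorem sig_two (hF : Fintype.card F = 2) (a : E) :
    A.σ (A.σ (A.σ a)) = a ∧ A.β a = A.σ a * A.σ (A.σ a) := by
  have h2 := two_eq hF
  have h2' : (2 : E) = 0 := by rw [← map_ofNat A.ι 2, h2, map_zero]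
  have f01 : ∀ t : F, t = 0 ∨ t = 1 := fun t => by
    have := FiniteField.pow_card t
    rw [hF] at this
    rcases eq_or_ne t 0 with h | h
    · exact .inl h
    · exact .inr (mul_left_cancel₀ h (by linear_combination this))
  have hβ : ∀ a, A.β a = a⁻¹ := fun a => by
    rcases eq_or_ne a 0 with rfl | h
    · rw [A.β_zero, inv_zero]
    · have := A.mul_β a
      rw [(f01 _).resolve_left (A.Cn_ne h), map_one] at this
      exact eq_inv_of_mul_eq_one_right this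
  have key : ∀ y : E, ∃ ε : E, (ε = 0 ∨ ε = 1) ∧
      A.d3 1 1 * ((1 - y)⁻¹ - 1 - (-y)⁻¹) = y + ε * A.d3 1 1 := fun y => by
    have k := (A.K one_ne_zero y).2
    rw [A.e3_eq', hβ, hβ, hβ] at k
    simp only [inv_one, one_mul] at k
    refine ⟨_, ?_, k⟩
    rcases f01 (A.g2 1 (-y)) with h | h <;> simp [h]
  have c : A.d3 1 1 = 1 := by
    obtain ⟨ε, h | h, k⟩ := key 1
    · simp [h] at k
    · simp only [h, sub_self, inv_zero, inv_neg, inv_one] at k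
      linear_combination -k - h2'
  have h7 : a = 0 ∨ a ^ 7 = 1 := by
    rcases eq_or_ne a 0 with h0 | h0
    · exact .inl h0
    rcases eq_or_ne a 1 with h1 | h1
    · exact .inr (by rw [h1, one_pow])
    right
    have h1' : 1 - a ≠ 0 := sub_ne_zero.2 h1.symm
    obtain ⟨ε, h | h, k⟩ := key a
    · rw [c, h] at k
      field_simp at k
      linear_combination (a ^ 4 + a ^ 2 - a + 1) * k + (-a ^ 2 + a - 1) * h2'
    · rw [c, h] at k
      field_simp at k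
      linear_combination (a ^ 4 - a ^ 3 + 3 * a ^ 2 - 6 * a + 13) * k + (-14 * a ^ 2 + 16 * a - 7) * h2'
  simp only [Hex.σ_eq, hF, hβ]
  rcases h7 with rfl | h7
  · simp
  · have h0 : a ≠ 0 := fun e => by simp [e] at h7
    refine ⟨by linear_combination a * h7, ?_⟩
    field_simp
    linear_combination -h7

theorem sig_even (h2 : (2 : F) = 0) (a : E) :
    A.σ (A.σ (A.σ a)) = a ∧ A.β a = A.σ a * A.σ (A.σ a) := by
  by_cases hF : Fintype.card F = 2
  · exact sig_two A hF a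
  have : CharP F 2 := CharTwo.of_one_ne_zero_of_two_eq_zero one_ne_zero h2
  obtain ⟨n, -, hn⟩ := FiniteField.card F 2
  have h1 : 1 < Fintype.card F := Fintype.one_lt_card
  have h3 : Fintype.card F ≠ 3 := fun e => by
    have : 2 ∣ Fintype.card F := hn ▸ dvd_pow_self 2 n.ne_zero
    omega
  obtain ⟨ω, w0, w1⟩ := RIV.HxE.exists_w (F := F) (by omega)
  exact RIV.HxE.sig3 A A.σ A.hσ w0 w1 a

end

end HxT

open HxT H9.X9.HxN

variable {G G' E F E' F' : Type*} [Group G] [Group G'] [Field E] [Fintype E] [Field F] [Fintype F]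
  [Field E'] [Fintype E'] [Field F'] [Fintype F']

theorem hex_card (A : Hex G E F) (h2 : (2 : F) = 0) :
    Fintype.card E = Fintype.card F ∨ Fintype.card E = Fintype.card F ^ 3 := by
  let _ := A.ι.toAlgebra
  have h : orderOf (FiniteField.frobeniusAlgHom F E) ∣ 3 := orderOf_dvd_of_pow_eq_one
    (AlgHom.ext fun a => (sig_even A h2 a).1)
  rw [FiniteField.orderOf_frobeniusAlgHom] at h
  rw [Module.card_eq_pow_finrank (K := F) (V := E)]
  rcases (Nat.dvd_prime Nat.prime_three).1 h with e | e <;> simp [e]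

theorem hex_equiv (A : Hex G E F) (A' : Hex G' E' F') (h2 : (2 : F) = 0)
    (e1 : Fintype.card E = Fintype.card E') (e2 : Fintype.card F = Fintype.card F') (hZ : ZTriv A.Gp)
    (hZ' : ZTriv A'.Gp) : Nonempty (A.Gp ≃* A'.Gp) := by
  let φ := FiniteField.ringEquivOfCardEq e1
  have hφ : ∀ x, A'.σ (φ x) = φ (A.σ x) := fun x => by rw [Hex.σ_eq, Hex.σ_eq, map_pow, e2]
  have inj := A'.ι.injective
  choose ψ0 hψ0 using fun t => (A'.hσ (φ (A.ι t))).1 (by rw [hφ, (A.hσ _).2 ⟨t, rfl⟩])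
  let ψ1 : F →+* F' := ⟨⟨⟨ψ0, inj (by simp [hψ0])⟩, fun a b => inj (by simp [hψ0])⟩, inj (by simp [hψ0]),
    fun a b => inj (by simp [hψ0])⟩
  obtain ⟨ψ, hψ⟩ : ∃ ψ : F ≃+* F', ∀ t, A'.ι (ψ t) = φ (A.ι t) :=
    ⟨RingEquiv.ofBijective ψ1 ((Fintype.bijective_iff_injective_and_card _).2 ⟨ψ1.injective, e2⟩), hψ0⟩
  have h2' : (2 : F') = 0 := by rw [← map_ofNat ψ 2, h2, map_zero]
  have s3 := sig_even A h2
  have s3' := sig_even A' h2'
  have c := HxT.c_eq A _ A.hσ s3 h2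
  have c' := HxT.c_eq A' _ A'.hσ s3' h2'
  have kβ : ∀ a, A'.β (φ a) = φ (A.β a) := fun a => by
    rw [(s3' _).2, (s3 _).2, hφ, hφ, map_mul]
  have kC : ∀ a, A'.Cn (φ a) = ψ (A.Cn a) := fun a => inj (by rw [hψ, ← A.mul_β, ← A'.mul_β, kβ, map_mul])
  have kg : ∀ a z, A'.g2 (φ a) (φ z) = ψ (A.g2 a z) := fun a z => inj (by
    rw [hψ, g2_eq A _ A.hσ s3 h2, g2_eq A' _ A'.hσ s3' h2', ← map_mul, hφ, hφ, map_add, map_add])
  have ke2 : ∀ a y, A'.e2 (φ a) (φ y) = ψ (A.e2 a y) := fun a y => by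
    rw [A.e2_eq, A'.e2_eq, ← map_inv₀, ← map_neg, kC, kg, map_mul]
  have ke3 : ∀ a y, A'.e3 (φ a) (φ y) = φ (A.e3 a y) := fun a y => by
    rw [A.e3_eq', A'.e3_eq', c, c', one_mul, one_mul, ← map_sub, ← map_neg, kβ, kβ, kβ, map_sub, map_sub]
  have kd2 : ∀ a t, A'.d2 (φ a) (ψ t) = ψ (A.d2 a t) := fun a t => by rw [A.d2_eq, A'.d2_eq, kC, map_mul]
  have kd3 : ∀ a t, A'.d3 (φ a) (ψ t) = φ (A.d3 a t) := fun a t => by
    rw [A.d3_eq', A'.d3_eq', c, c', mul_one, mul_one, kβ, hψ, map_mul]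
  have kd5 : ∀ a t, A'.d5 (φ a) (ψ t) = φ (A.d5 a t) := fun a t => by rw [A.d5_eq, A'.d5_eq, hψ, map_neg, map_mul]
  obtain ⟨κ, hκ⟩ : ∃ κ, κ = A'.d4 1 1 - ψ (A.d4 1 1) := ⟨_, rfl⟩
  have dd : ∀ a t, A'.d4 (φ a) (ψ t) - ψ (A.d4 a t) = ψ (A.Cn a) * ψ t ^ 2 * κ := fun a t => by
    by_cases ha : a = 0
    · rw [ha, map_zero, d4_zero', d4_zero', A.Cn_zero, map_zero]; ring
    by_cases ht : t = 0
    · rw [ht, map_zero, d4_zero, d4_zero, map_zero]; ring
    have l := (RIV.HxE.tor A ha ht).2 1 1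
    have l' := (RIV.HxE.tor A' ((map_ne_zero φ).2 ha) ((map_ne_zero ψ).2 ht)).2 1 1
    rw [mul_one, mul_one] at l l'
    rw [l, l', kC, map_mul, map_mul, map_pow, hκ]; ring
  have de : ∀ a b, A'.e4 (φ a) (φ (-b)) - ψ (A.e4 a (-b)) = (ψ (A.Cn (a + b)) - ψ (A.Cn a) - ψ (A.Cn b)) * κ :=
    fun a b => by
    have l := congrArg ψ (d4_add A a b 1)
    have l' := d4_add A' (φ a) (φ b) (ψ 1)
    rw [← map_add, kd5, kd3, kg] at l'
    rw [A.d5_eq, map_one A.ι, one_mul] at l l'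
    simp only [map_add ψ] at l
    have d1 := dd (a + b) 1
    have d2 := dd a 1
    have d3 := dd b 1
    rw [map_one ψ] at d1 d2 d3 l'
    linear_combination l - l' + d1 - d2 - d3
  have k0 : κ = 0 := by
    rw [hκ, d4_one A _ A.hσ s3 h2, d4_one A' _ A'.hσ s3' h2', map_one, sub_self]
  have ke4 : ∀ a y, A'.e4 (φ a) (φ y) = ψ (A.e4 a y) := fun a y => by
    have := de a (-y)
    rwa [neg_neg, k0, mul_zero, sub_eq_zero] at this
  have kd4 : ∀ a t, A'.d4 (φ a) (ψ t) = ψ (A.d4 a t) := fun a t => by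
    have := dd a t
    rwa [k0, mul_zero, sub_eq_zero] at this
  obtain ⟨D, hD⟩ := exists_gon A (by rw [← map_ofNat A.ι 2, h2, map_zero]) h2
  obtain ⟨D', hD'⟩ := exists_gon A' (by rw [← map_ofNat A'.ι 2, h2', map_zero]) h2'
  have eG : D.Gp = A.Gp := by rw [Gon.Gp, hD]; rfl
  have eG' : D'.Gp = A'.Gp := by rw [Gon.Gp, hD']; rfl
  let Γ : ℕ → Subgroup (G × G') := fun i => match i with
    | 1 => NF.gr A.p1 A'.p1 φ
    | 2 => NF.gr A.p2 A'.p2 ψ
    | 3 => NF.gr A.p3 A'.p3 φ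
    | 4 => NF.gr A.p4 A'.p4 ψ
    | 5 => NF.gr A.p5 A'.p5 φ
    | _ => NF.gr A.p6 A'.p6 ψ
  have sp : ∀ i ∈ Set.Icc 1 6, (Γ i).map (MonoidHom.fst G G') = D.X i ∧ (Γ i).map (MonoidHom.snd G G') = D'.X i ∧
      ∀ z ∈ Γ i, z.1 = 1 ↔ z.2 = 1 := fun i ⟨h3, h4⟩ => by
    rw [hD, hD']
    interval_cases i <;> exact NF.gr_spec _ _ _
  have lu : ∀ {s : Set ℕ} (l : ℕ) {x : G × G'}, x ∈ Γ l → l ∈ s → x ∈ ⨆ l ∈ s, Γ l := fun l x hx h =>
    le_iSup₂ (f := fun (l : ℕ) _ => Γ l) l h hx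
  rw [← eG, ← eG']
  refine Gon.prod (Or.inr rfl) D D' Γ (fun i h => (sp i h).1) (fun i h => (sp i h).2.1) (fun i h => (sp i h).2.2)
    (fun i k h1 h3 h4 x hx y hy => ?_) (eG ▸ hZ) (eG' ▸ hZ')
  have h5 : i < 6 := by omega
  have e : ⁅x, y⁆ = (⁅x.1, y.1⁆, ⁅x.2, y.2⁆) := rfl
  rw [e]
  interval_cases i <;> interval_cases k <;> obtain ⟨a, rfl⟩ := hx <;> obtain ⟨b, rfl⟩ := hy
  all_goals dsimp only
  · rw [commutatorElement_eq_one_iff_mul_comm.2 (A.cmm (A.p1.m a) (A.p2.m b)),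
      commutatorElement_eq_one_iff_mul_comm.2 (A'.cmm (A'.p1.m _) (A'.p2.m _))]; exact one_mem _
  · rw [A.r13, A'.r13, kg]; exact lu 2 ⟨_, rfl⟩ (by simp)
  · rw [commutatorElement_eq_one_iff_mul_comm.2 (A.cmm (A.p1.m a) (A.p4.m b)),
      commutatorElement_eq_one_iff_mul_comm.2 (A'.cmm (A'.p1.m _) (A'.p4.m _))]; exact one_mem _
  · rw [A.r15, A'.r15, ke2, ke3, ke4, Hex.Φ, Hex.Φ, A.p5.zero, A'.p5.zero, A.p6.zero, A'.p6.zero, mul_one, mul_one,
      mul_one, mul_one, ← Prod.mk_mul_mk, ← Prod.mk_mul_mk]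
    exact mul_mem (lu 4 ⟨_, rfl⟩ (by simp)) (mul_mem (lu 2 ⟨_, rfl⟩ (by simp)) (lu 3 ⟨_, rfl⟩ (by simp)))
  · rw [A.r16, A'.r16, kd2, kd3, kd4, kd5, Hex.Φ, Hex.Φ, A.p6.zero, A'.p6.zero, mul_one, mul_one,
      ← Prod.mk_mul_mk, ← Prod.mk_mul_mk, ← Prod.mk_mul_mk]
    exact mul_mem (lu 4 ⟨_, rfl⟩ (by simp)) (mul_mem (lu 2 ⟨_, rfl⟩ (by simp)) (mul_mem (lu 3 ⟨_, rfl⟩ (by simp))
      (lu 5 ⟨_, rfl⟩ (by simp))))
  · rw [commutatorElement_eq_one_iff_mul_comm.2 (A.cmm (A.p2.m a) (A.p3.m b)),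
      commutatorElement_eq_one_iff_mul_comm.2 (A'.cmm (A'.p2.m _) (A'.p3.m _))]; exact one_mem _
  · rw [commutatorElement_eq_one_iff_mul_comm.2 (A.cmm (A.p2.m a) (A.p4.m b)),
      commutatorElement_eq_one_iff_mul_comm.2 (A'.cmm (A'.p2.m _) (A'.p4.m _))]; exact one_mem _
  · rw [commutatorElement_eq_one_iff_mul_comm.2 (A.cmm (A.p2.m a) (A.p5.m b)),
      commutatorElement_eq_one_iff_mul_comm.2 (A'.cmm (A'.p2.m _) (A'.p5.m _))]; exact one_mem _
  · rw [A.r26, A'.r26, ← map_mul, ← map_neg]; exact lu 4 ⟨_, rfl⟩ (by simp)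
  · rw [commutatorElement_eq_one_iff_mul_comm.2 (A.cmm (A.p3.m a) (A.p4.m b)),
      commutatorElement_eq_one_iff_mul_comm.2 (A'.cmm (A'.p3.m _) (A'.p4.m _))]; exact one_mem _
  · rw [A.r35, A'.r35, kg, ← map_neg]; exact lu 4 ⟨_, rfl⟩ (by simp)
  · rw [commutatorElement_eq_one_iff_mul_comm.2 (A.cmm (A.p3.m a) (A.p6.m b)),
      commutatorElement_eq_one_iff_mul_comm.2 (A'.cmm (A'.p3.m _) (A'.p6.m _))]; exact one_mem _
  · rw [commutatorElement_eq_one_iff_mul_comm.2 (A.cmm (A.p4.m a) (A.p5.m b)),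
      commutatorElement_eq_one_iff_mul_comm.2 (A'.cmm (A'.p4.m _) (A'.p5.m _))]; exact one_mem _
  · rw [commutatorElement_eq_one_iff_mul_comm.2 (A.cmm (A.p4.m a) (A.p6.m b)),
      commutatorElement_eq_one_iff_mul_comm.2 (A'.cmm (A'.p4.m _) (A'.p6.m _))]; exact one_mem _
  · rw [commutatorElement_eq_one_iff_mul_comm.2 (A.cmm (A.p5.m a) (A.p6.m b)),
      commutatorElement_eq_one_iff_mul_comm.2 (A'.cmm (A'.p5.m _) (A'.p6.m _))]; exact one_mem _


/-- A finite simple group generated by a hexagonal system is of Lie type. -/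
theorem hex_lie {G : Type*} [Group G] [Finite G] [IsSimpleGroup G] {E F : Type} [Field E] [Fintype E]
    [Field F] [Fintype F] (A : Hex G E F) (hA : A.Gp = ⊤) : Tits.Lie G := by
  have nab : ¬ ∀ x y : G, x * y = y * x := fun h => by
    have r := A.r26 1 1
    rw [commutatorElement_eq_one_iff_mul_comm.2 (h _ _)] at r
    simpa using A.p4.inj _ r.symm
  have hZ : ZTriv A.Gp := fun g _ l => by
    rcases IsSimpleGroup.eq_bot_or_eq_top_of_normal (center G) inferInstance with e | e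
    · exact mem_bot.1 (e ▸ mem_center_iff.2 fun a => (l a (hA ▸ mem_top a)).symm)
    · exact (nab fun x y => mem_center_iff.1 (e ▸ mem_top y) x).elim
  have fin : ∀ {H : Type} [Group H] (K : Subgroup H), K = ⊤ → Nonempty (A.Gp ≃* K) → Nonempty (G ≃* H) :=
    fun K hK ⟨ε⟩ => ⟨(topEquiv.symm.trans (MulEquiv.subgroupCongr hA.symm)).trans
      (ε.trans ((MulEquiv.subgroupCongr hK).trans topEquiv))⟩
  have main : Nonempty (G ≃* ↥(Lie.chevG2.group F)) ∨ (Fintype.card E = Fintype.card F ^ 3 ∧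
      Nonempty (G ≃* ↥(Lie.twistedD4 E (Fintype.card F)))) := by
    by_cases h2 : (2 : F) = 0
    · rcases hex_card A h2 with e | e
      · obtain ⟨B, hB, hZ'⟩ := RIV.mod_g2' (F := F) h2
        exact .inl (fin _ hB (hex_equiv A B h2 e rfl hZ hZ'))
      · obtain ⟨B, hB, hZ'⟩ := RIV.mod_d4' (E := E) h2 e
        exact .inr ⟨e, fin _ hB (hex_equiv A B h2 rfl rfl hZ hZ')⟩
    · have od : ∀ {K : Type} [Field K] [Fintype K], (2 : K) ≠ 0 → Odd (Fintype.card K) := fun {K} _ _ h =>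
        Nat.odd_iff.2 <| FiniteField.odd_card_of_char_ne_two fun e => h (by
          have := (ringChar.spec K 2).2 (e ▸ dvd_rfl)
          exact_mod_cast this)
      have hF := od h2
      have hE : Odd (Fintype.card E) := od fun e => h2 (A.ι.injective (by rw [map_ofNat, e, map_zero]))
      rcases A.card hE hF with e | e
      · obtain ⟨B, hB, hZ'⟩ := mod_g2 (F := F) hF
        exact .inl (fin _ hB (A.equiv B hE hF e rfl hZ hZ'))
      · obtain ⟨B, hB, hZ'⟩ := mod_d4 (E := E) hF e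
        exact .inr ⟨e, fin _ hB (A.equiv B hE hF rfl rfl hZ hZ')⟩
  rcases main with ⟨⟨ε⟩⟩ | ⟨e, ε⟩
  · by_cases hF : Fintype.card F = 2
    · haveI : Fact (Nat.Prime 3) := ⟨Nat.prime_three⟩
      letI := Fintype.ofFinite (GaloisField 3 2)
      have h9 : Fintype.card (GaloisField 3 2) = 9 := by
        rw [← Nat.card_eq_fintype_card, GaloisField.card 3 2 (by norm_num)]; norm_num
      obtain ⟨δ⟩ := Cfsg.Agent.S1057.result hF h9
      have hc : commutator G = ⊤ := by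
        rcases IsSimpleGroup.eq_bot_or_eq_top_of_normal (commutator G) inferInstance with e | e
        · exact (nab fun x y => commutatorElement_eq_one_iff_mul_comm.1
            (mem_bot.1 (e ▸ commutator_mem_commutator (mem_top x) (mem_top y)))).elim
        · exact e
      have hc' : commutator ↥(Lie.chevG2.group F) = ⊤ := by
        have := map_commutator_eq G ε.toMonoidHom
        rw [hc, ← MonoidHom.range_eq_map, MonoidHom.range_eq_top.2 ε.surjective] at this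
        exact this.symm
      exact .inr (.inr (.inl ⟨_, _, _, 3, 3, h9, le_rfl, by simp,
        ⟨ε.trans ((topEquiv.symm.trans (MulEquiv.subgroupCongr hc'.symm)).trans δ)⟩⟩))
    · have h1 : 1 < Fintype.card F := Fintype.one_lt_card
      exact .inr (.inr (.inr (.inr (.inr (.inr (.inl ⟨F, _, _, by omega, ⟨ε⟩⟩))))))
  · exact .inr (.inr (.inr (.inr (.inr (.inr (.inr (.inr (.inr (.inr (.inr (.inr (.inl
      ⟨E, _, _, _, Fintype.isPrimePow_card_of_field, e, ε⟩))))))))))))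

end H80.FS6
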